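import Groth.Agent.Lib.Cohen.Nagata
import Groth.Agent.Lib.AdicLim.Finite
import Mathlib.FieldTheory.Perfect

/-!
# Complete local Noetherian rings are Nagata
-/

set_option autoImplicit false

namespace GrothLib.Cohen

universe u

open IsLocalRing

theorem isN2_of_field (k : Type u) [Field k] : CAlg.IsN2 k := by
  intro L _ _ _ _ h
  haveI := h
  haveI : Module.Finite k (FractionRing k) := by
    refine Module.Finite.of_surjective (Algebra.linearMap k (FractionRing k)) ?_
    exact IsFractionRing.surjective_iff_isField.2 (Field.toIsField k)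
  haveI : Module.Finite k L := Module.Finite.trans (FractionRing k) L
  exact Module.Finite.of_injective (integralClosure k L).val.toLinearMap Subtype.val_injective

theorem isN2_of_charZero (A : Type u) [CommRing A] [IsDomain A] [IsNoetherianRing A] [IsIntegrallyClosed A]
    [CharZero A] : CAlg.IsN2 A := by
  intro L _ _ _ _ h
  haveI := h
  haveI : CharZero (FractionRing A) :=
    charZero_of_injective_ringHom (IsFractionRing.injective A (FractionRing A))
  exact GrothLib.N2.finite_of_separable L

/-- A complete local Noetherian domain is N-2. -/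
theorem isN2_of_isAdicComplete (D : Type u) [CommRing D] [IsDomain D] [IsLocalRing D] [IsNoetherianRing D]
    [IsAdicComplete (maximalIdeal D) D] : CAlg.IsN2 D := by
  classical
  -- system of parameters
  have hsop : ∀ (E : Type u) [CommRing E] [IsLocalRing E] [IsNoetherianRing E],
      ∃ s : Finset E, (↑s ⊆ (maximalIdeal E : Set E)) ∧
        maximalIdeal E ≤ (Ideal.span (s : Set E)).radical ∧ (s.card : WithBot ℕ∞) = ringKrullDim E := by
    intro E _ _ _
    obtain ⟨s, hmin, hcard⟩ := Ideal.exists_finset_card_eq_height_of_isNoetherianRing (maximalIdeal E)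
    refine ⟨s, fun x hx => hmin.1.2 (Ideal.subset_span hx), ?_, ?_⟩
    · rw [Ideal.radical_eq_sInf]
      refine le_sInf fun P hP => ?_
      exact hmin.2 ⟨hP.2, hP.1⟩ (le_maximalIdeal hP.2.ne_top)
    · rw [← IsLocalRing.maximalIdeal_height_eq_ringKrullDim, ← hcard]
      rfl
  -- the case of a coefficient field
  have equal' : ∀ (k : Type u) [Field k] (σ : k →+* D), Function.Surjective ((residue D).comp σ) →
      CAlg.IsN2 D := by
    intro k _ σ hσ
    obtain ⟨S, hS, hrad, hcard⟩ := hsop D
    haveI : IsAdicComplete (maximalIdeal k) k := by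
      rw [IsLocalRing.maximalIdeal_eq_bot]; infer_instance
    refine isN2_of_parameters (Λ := k) (isN2_of_field _) σ hσ
      (∅ : Finset k) (by rw [IsLocalRing.maximalIdeal_eq_bot, Finset.coe_empty, Ideal.span_empty]) (fun i : Fin S.card => ((S.equivFin.symm i : S) : D))
      (fun i => hS (S.equivFin.symm i).2) ?_ ?_
    · refine hrad.trans (Ideal.radical_mono (le_sup_of_le_right (Ideal.span_mono fun x hx => ?_)))
      exact ⟨S.equivFin ⟨x, hx⟩, by simp⟩
    · simp only [Finset.card_empty, add_zero]; exact hcard.le
  have equal : ∀ (s : ResidueField D →+* D), (residue D).comp s = RingHom.id _ → CAlg.IsN2 D :=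
    fun s hs => equal' (ResidueField D) s (by rw [hs]; exact Function.surjective_id)
  obtain ⟨q, hq⟩ := CharP.exists (ResidueField D)
  rcases CharP.char_is_prime_or_zero (ResidueField D) q with hp | rfl
  · by_cases hD : (q : D) = 0
    · haveI := Fact.mk hp
      haveI : CharP D q := (CharP.charP_iff_prime_eq_zero hp).2 hD
      letI : Algebra (GrothLib.SepField.PrimeFld.{u} q) D :=
        ((ZMod.castHom (dvd_refl q) D).comp ULift.ringEquiv.toRingHom).toAlgebra
      obtain ⟨s, hs⟩ := GrothLib.CoeffField.exists_coefficientField (GrothLib.SepField.PrimeFld.{u} q) D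
      exact equal s hs
    · obtain ⟨Λ, _, _, ⟨hd, hv, hc, p, hp', hm⟩, ⟨e⟩⟩ := exists_cohenRing q hp (ResidueField D)
      have hqp : p = q := by
        have h1 : (p : ResidueField D) = 0 := by
          rw [← map_natCast e, ← map_natCast (residue Λ), (residue_eq_zero_iff _).2
            (hm ▸ Ideal.subset_span rfl), map_zero]
        exact ((Nat.prime_dvd_prime_iff_eq hp hp').1 ((CharP.cast_eq_zero_iff _ q p).1 h1)).symm
      subst hqp
      have hqm : (p : D) ∈ maximalIdeal D := by rw [← residue_eq_zero_iff, map_natCast, CharP.cast_eq_zero]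
      obtain ⟨g, hg⟩ := exists_lift p hp' hm hqm e.toRingHom
      haveI := charZero_of_maximalIdeal_eq_span Λ p hp' hm
      let J : Ideal D := Ideal.span {(p : D)}
      haveI : Nontrivial (D ⧸ J) := Ideal.Quotient.nontrivial_iff.2
        (ne_top_of_le_ne_top (maximalIdeal.isMaximal D).ne_top ((Ideal.span_singleton_le_iff_mem _).2 hqm))
      haveI : IsLocalRing (D ⧸ J) := IsLocalRing.of_surjective' (Ideal.Quotient.mk J) Ideal.Quotient.mk_surjective
      obtain ⟨S, hS, hrad, hcard⟩ := hsop (D ⧸ J)
      let b : Fin S.card → D := fun i => (Ideal.Quotient.mk_surjective ((S.equivFin.symm i : S) : D ⧸ J)).choose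
      have hb : ∀ i, Ideal.Quotient.mk J (b i) = ((S.equivFin.symm i : S) : D ⧸ J) := fun i =>
        (Ideal.Quotient.mk_surjective ((S.equivFin.symm i : S) : D ⧸ J)).choose_spec
      haveI : IsLocalHom (Ideal.Quotient.mk J) :=
        IsLocalHom.of_surjective _ Ideal.Quotient.mk_surjective
      have hbm : ∀ i, b i ∈ maximalIdeal D := fun i => by
        rw [IsLocalRing.mem_maximalIdeal, mem_nonunits_iff]
        intro hu
        have h2 := hS (S.equivFin.symm i).2
        rw [SetLike.mem_coe, IsLocalRing.mem_maximalIdeal, mem_nonunits_iff, ← hb] at h2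
        exact h2 (hu.map _)
      refine isN2_of_parameters (Λ := Λ) (isN2_of_charZero Λ) g (by rw [hg]; exact e.surjective.comp residue_surjective)
        {(p : Λ)} (by rw [hm, Finset.coe_singleton]) b hbm ?_ ?_
      · rw [hm, Ideal.map_span, Set.image_singleton, map_natCast]
        intro x hx
        obtain ⟨n, hn⟩ := hrad (show Ideal.Quotient.mk J x ∈ maximalIdeal (D ⧸ J) from
          (IsLocalRing.mem_maximalIdeal _).2 fun hu => (IsLocalRing.mem_maximalIdeal _).1 hx
            (isUnit_of_map_unit (Ideal.Quotient.mk J) x hu))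
        refine ⟨n, ?_⟩
        rw [← map_pow] at hn
        have h2 : Ideal.Quotient.mk J (x ^ n) ∈ (Ideal.span (Set.range b)).map (Ideal.Quotient.mk J) := by
          rw [Ideal.map_span]
          refine Ideal.span_mono (fun y hy => ?_) hn
          exact ⟨b (S.equivFin ⟨y, hy⟩), ⟨_, rfl⟩, by rw [hb]; simp⟩
        rw [← Ideal.mem_comap, Ideal.comap_map_of_surjective' _ Ideal.Quotient.mk_surjective, Ideal.mk_ker,
          sup_comm] at h2
        exact h2
      · have h3 := ringKrullDim_quotient_succ_le_of_nonZeroDivisor (mem_nonZeroDivisors_of_ne_zero hD)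
        rw [← hcard] at h3
        simpa using h3
  · haveI : CharZero (ResidueField D) := CharP.charP_to_charZero _
    obtain ⟨halg⟩ := GrothLib.CoeffField.nonempty_algebra_rat D
    obtain ⟨s, hs⟩ := GrothLib.CoeffField.exists_coefficientField (ULift.{u} ℚ) D
    exact equal s hs

theorem isNagata_of_isAdicComplete (R : Type u) [CommRing R] [IsLocalRing R] [IsNoetherianRing R]
    [IsAdicComplete (maximalIdeal R) R] : CAlg.IsNagata R := by
  refine ⟨inferInstance, fun P _ => ?_⟩
  haveI : IsLocalRing (R ⧸ P) := IsLocalRing.of_surjective' (Ideal.Quotient.mk P) Ideal.Quotient.mk_surjective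
  haveI : IsAdicComplete (maximalIdeal (R ⧸ P)) (R ⧸ P) := by
    have h1 : IsAdicComplete (maximalIdeal R) (R ⧸ P) :=
      GrothLib.AdicLim.isAdicComplete_of_finite (maximalIdeal R) (R ⧸ P)
    rw [← IsAdicComplete.map_algebraMap_iff (S := R ⧸ P)] at h1
    rwa [Ideal.Quotient.algebraMap_eq, IsLocalRing.eq_maximalIdeal (Ideal.IsMaximal.map_of_surjective_of_ker_le
      (f := Ideal.Quotient.mk P) Ideal.Quotient.mk_surjective
      (by rw [Ideal.mk_ker]; exact le_maximalIdeal (Ideal.IsPrime.ne_top ‹_›)))] at h1
  exact isN2_of_isAdicComplete (R ⧸ P)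

end GrothLib.Cohen
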