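import Groth.Agent.Lib.Cohen.Structure
import Groth.Agent.Lib.N2.PowerSeries
import Groth.Agent.Lib.Dim.Ring
import Groth.Agent.Lib.AdicExtra.Complete
import Groth.Agent.Lib.AdicFS.PowerSeries
import Mathlib.RingTheory.Ideal.KrullsHeightTheorem

/-!
# Complete local Noetherian rings are Nagata
-/

set_option autoImplicit false

namespace GrothLib.Cohen

universe u

open IsLocalRing

/-- N-2 passes to finite extension domains. -/
theorem isN2_of_finite {A D : Type u} [CommRing A] [IsDomain A] [IsNoetherianRing A] [CommRing D] [IsDomain D]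
    [Algebra A D] [Module.Finite A D] (hinj : Function.Injective (algebraMap A D)) (h : CAlg.IsN2 A) :
    CAlg.IsN2 D := by
  classical
  intro L _ _ _ _ hfin
  haveI := hfin
  let F := FractionRing D
  let K := FractionRing A
  have hAF : Function.Injective ((algebraMap D F).comp (algebraMap A D)) :=
    (IsFractionRing.injective D F).comp hinj
  letI : Algebra K F := (IsFractionRing.lift hAF).toAlgebra
  haveI : IsScalarTower A K F := IsScalarTower.of_algebraMap_eq fun a => by
    rw [RingHom.algebraMap_toAlgebra, IsFractionRing.lift_algebraMap hAF, RingHom.comp_apply,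
      ← IsScalarTower.algebraMap_apply]
  haveI : FiniteDimensional K F := by
    obtain ⟨s, hs⟩ := Module.Finite.fg_top (R := A) (M := D)
    let T : Set F := (s.image (algebraMap D F) : Set F)
    haveI : Finite T := (s.image (algebraMap D F)).finite_toSet
    haveI hEfin : FiniteDimensional K (IntermediateField.adjoin K T) := by
      refine IntermediateField.finiteDimensional_adjoin fun x hx => ?_
      obtain ⟨y, -, rfl⟩ := Finset.mem_image.1 hx
      exact ((Algebra.IsIntegral.isIntegral (R := A) y).map (IsScalarTower.toAlgHom A D F)).tower_top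
    have hD : ∀ y : D, algebraMap D F y ∈ IntermediateField.adjoin K T := fun y => by
      have hy : y ∈ Submodule.span A (s : Set D) := hs.symm ▸ trivial
      induction hy using Submodule.span_induction with
      | mem z hz => exact IntermediateField.subset_adjoin K T (Finset.mem_image_of_mem _ hz)
      | zero => rw [map_zero]; exact zero_mem _
      | add z w _ _ hz hw => rw [map_add]; exact add_mem hz hw
      | smul a z _ hz =>
        rw [Algebra.smul_def, map_mul, ← IsScalarTower.algebraMap_apply A D F,
          IsScalarTower.algebraMap_apply A K F]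
        exact mul_mem (IntermediateField.algebraMap_mem _ _) hz
    have htop : IntermediateField.adjoin K T = ⊤ := eq_top_iff.2 fun z _ => by
      obtain ⟨a, b, -, rfl⟩ := IsFractionRing.div_surjective D (K := F) z
      exact div_mem (hD a) (hD b)
    haveI : FiniteDimensional K (⊤ : IntermediateField K F) := htop ▸ hEfin
    exact (IntermediateField.topEquiv (F := K) (E := F)).toLinearEquiv.finiteDimensional
  letI : Algebra A L := ((algebraMap D L).comp (algebraMap A D)).toAlgebra
  haveI : IsScalarTower A D L := IsScalarTower.of_algebraMap_eq fun _ => rfl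
  letI : Algebra K L := ((algebraMap F L).comp (algebraMap K F)).toAlgebra
  haveI : IsScalarTower K F L := IsScalarTower.of_algebraMap_eq fun _ => rfl
  haveI : FiniteDimensional K L := Module.Finite.trans F L
  haveI : IsScalarTower A K L := IsScalarTower.of_algebraMap_eq fun a => by
    show algebraMap D L (algebraMap A D a) = algebraMap F L (algebraMap K F (algebraMap A K a))
    rw [← IsScalarTower.algebraMap_apply A K F, IsScalarTower.algebraMap_apply A D F,
      ← IsScalarTower.algebraMap_apply D F L]
  haveI : Module.Finite A (integralClosure A L) := h L inferInstance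
  let f : integralClosure A L →ₗ[A] integralClosure D L :=
    { toFun := fun x => ⟨x.1, IsIntegral.tower_top x.2⟩
      map_add' := fun _ _ => rfl
      map_smul' := fun c x => Subtype.ext (by simp) }
  haveI : Module.Finite A (integralClosure D L) :=
    Module.Finite.of_surjective f fun x => ⟨⟨x.1, isIntegral_trans (R := A) x.1 x.2⟩, Subtype.ext rfl⟩
  exact Module.Finite.of_restrictScalars_finite A D _

/-- Modulo an ideal containing a power of the maximal ideal, a local ring is finite over any ring surjecting
onto the residue field. -/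
theorem finite_quotient_of_residue_surjective {Λ D : Type u} [CommRing Λ] [CommRing D] [IsLocalRing D]
    [IsNoetherianRing D] [Algebra Λ D] (hres : Function.Surjective ((residue D).comp (algebraMap Λ D)))
    (J : Ideal D) (hJ : maximalIdeal D ≤ J.radical) : Module.Finite Λ (D ⧸ J) := by
  classical
  obtain ⟨N, hN⟩ := Ideal.exists_radical_pow_le_of_fg J (IsNoetherian.noetherian _)
  have hN' : maximalIdeal D ^ N ≤ J := (Ideal.pow_right_mono hJ N).trans hN
  have key : ∀ i : ℕ, ∃ F : Finset D, (⊤ : Submodule Λ D) ≤
      Submodule.span Λ (F : Set D) ⊔ (maximalIdeal D ^ i).restrictScalars Λ := by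
    intro i
    induction i with
    | zero => exact ⟨∅, fun x _ => Submodule.mem_sup_right (by simp)⟩
    | succ i ih =>
      obtain ⟨F, hF⟩ := ih
      obtain ⟨G, hG⟩ : (maximalIdeal D ^ i).FG := IsNoetherian.noetherian _
      refine ⟨F ∪ G, hF.trans (sup_le ((Submodule.span_mono (by simp)).trans le_sup_left) ?_)⟩
      intro y hy
      rw [Submodule.restrictScalars_mem, ← hG] at hy
      obtain ⟨c, -, rfl⟩ := Submodule.mem_span_finset.1 hy
      refine Submodule.sum_mem _ fun z hzG => ?_
      obtain ⟨a, ha⟩ := hres (residue D (c z))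
      have hca : c z - algebraMap Λ D a ∈ maximalIdeal D := Ideal.Quotient.eq.1 ha.symm
      rw [show c z • z = a • z + (c z - algebraMap Λ D a) * z by
        rw [smul_eq_mul, Algebra.smul_def]; ring]
      refine add_mem (Submodule.mem_sup_left (Submodule.smul_mem _ _ (Submodule.subset_span (by simp [hzG]))))
        (Submodule.mem_sup_right ?_)
      rw [Submodule.restrictScalars_mem, pow_succ, mul_comm _ z]
      exact Ideal.mul_mem_mul (hG.le (Submodule.subset_span hzG)) hca
  obtain ⟨F, hF⟩ := key N
  refine ⟨⟨F.image (Ideal.Quotient.mk J), eq_top_iff.2 fun y _ => ?_⟩⟩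
  obtain ⟨x, rfl⟩ := Ideal.Quotient.mk_surjective y
  obtain ⟨u, hu, v, hv, rfl⟩ := Submodule.mem_sup.1 (hF (x := x) trivial)
  rw [map_add, Ideal.Quotient.eq_zero_iff_mem.2 (hN' hv), add_zero, Finset.coe_image,
    show (⇑(Ideal.Quotient.mk J) : D → D ⧸ J) = ⇑((Ideal.Quotient.mkₐ Λ J).toLinearMap) from rfl,
    Submodule.span_image]
  exact Submodule.mem_map_of_mem hu

/-- The N-2 criterion by a presentation over a power series ring. -/
theorem isN2_of_parameters {Λ D : Type u} [CommRing Λ] [IsDomain Λ] [IsLocalRing Λ] [IsNoetherianRing Λ]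
    [IsIntegrallyClosed Λ] [IsAdicComplete (maximalIdeal Λ) Λ] (hΛ : CAlg.IsN2 Λ)
    [CommRing D] [IsDomain D] [IsLocalRing D] [IsNoetherianRing D] [IsAdicComplete (maximalIdeal D) D]
    (g : Λ →+* D) (hres : Function.Surjective ((residue D).comp g))
    (T : Finset Λ) (hT : maximalIdeal Λ = Ideal.span (T : Set Λ))
    {d : ℕ} (b : Fin d → D) (hb : ∀ i, b i ∈ maximalIdeal D)
    (hrad : maximalIdeal D ≤ ((maximalIdeal Λ).map g ⊔ Ideal.span (Set.range b)).radical)
    (hdim : ((d + T.card : ℕ) : WithBot ℕ∞) ≤ ringKrullDim D) : CAlg.IsN2 D := by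
  classical
  letI : Algebra Λ D := g.toAlgebra
  let A := MvPowerSeries (Fin d) Λ
  obtain ⟨ψ, hψ⟩ := GrothLib.RegLoc.PS.exists_algHom (A := Λ) (maximalIdeal D) b hb
  letI : Algebra A D := ψ.toRingHom.toAlgebra
  haveI : IsScalarTower Λ A D := IsScalarTower.of_algebraMap_eq fun c => (ψ.commutes c).symm
  set J := Ideal.span (Set.range b)
  have hJtop : J ≠ ⊤ := fun h => (maximalIdeal.isMaximal D).ne_top (top_le_iff.1 (h ▸ Ideal.span_le.2 (by
    rintro _ ⟨i, rfl⟩; exact hb i)))
  haveI : Nontrivial (D ⧸ J) := Ideal.Quotient.nontrivial_iff.2 hJtop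
  haveI : IsLocalRing (D ⧸ J) := IsLocalRing.of_surjective' (Ideal.Quotient.mk J) Ideal.Quotient.mk_surjective
  -- `D / J` is finite over `Λ`
  have hloc : (maximalIdeal Λ).map g ≤ maximalIdeal D := by
    refine ((local_hom_TFAE g).out 0 2 rfl rfl).1 ⟨fun a ha => ?_⟩
    by_contra hna
    haveI : IsHausdorff (maximalIdeal Λ) Λ := inferInstance
    have h1 : RingHom.ker ((residue D).comp g) = maximalIdeal Λ :=
      IsLocalRing.eq_maximalIdeal (RingHom.ker_isMaximal_of_surjective _ hres)
    have h2 : a ∈ RingHom.ker ((residue D).comp g) := h1 ▸ (IsLocalRing.mem_maximalIdeal a).2 hna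
    exact (IsLocalRing.mem_maximalIdeal _).1 ((residue_eq_zero_iff _).1 h2) ha
  haveI hfJ : Module.Finite Λ (D ⧸ J) := by
    set W : Submodule Λ (D ⧸ J) := maximalIdeal Λ • ⊤
    have hI : (maximalIdeal Λ).map (algebraMap Λ (D ⧸ J)) ≤ maximalIdeal (D ⧸ J) := by
      rw [show algebraMap Λ (D ⧸ J) = (Ideal.Quotient.mk J).comp g from rfl, ← Ideal.map_map]
      refine (Ideal.map_mono hloc).trans ?_
      exact (IsLocalRing.eq_maximalIdeal (Ideal.IsMaximal.map_of_surjective_of_ker_le
        (f := Ideal.Quotient.mk J) Ideal.Quotient.mk_surjective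
        (by rw [Ideal.mk_ker]; exact le_maximalIdeal hJtop))).le
    haveI : IsHausdorff (maximalIdeal Λ) (D ⧸ J) := by
      refine ⟨fun x hx => ?_⟩
      refine IsHausdorff.haus (I := maximalIdeal (D ⧸ J)) inferInstance x fun n => ?_
      have h := hx n
      rw [SModEq.sub_mem, sub_zero] at h ⊢
      rw [smul_eq_mul, Ideal.mul_top]
      rw [Ideal.smul_top_eq_map, Submodule.restrictScalars_mem, Ideal.map_pow] at h
      exact Ideal.pow_right_mono hI n h
    refine GrothLib.AdicExtra.finite_of_quotient_finite (I := maximalIdeal Λ) ?_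
    haveI := finite_quotient_of_residue_surjective (Λ := Λ) hres ((maximalIdeal Λ).map g ⊔ J) hrad
    let π : (D ⧸ (maximalIdeal Λ).map g ⊔ J) →ₗ[Λ] (D ⧸ J) ⧸ W :=
      Submodule.liftQ (((maximalIdeal Λ).map g ⊔ J).restrictScalars Λ)
        (W.mkQ.comp (Ideal.Quotient.mkₐ Λ J).toLinearMap) (by
          intro x hx
          rw [Submodule.restrictScalars_mem] at hx
          rw [LinearMap.mem_ker, LinearMap.comp_apply, Submodule.mkQ_apply, Submodule.Quotient.mk_eq_zero]
          rw [show W = ((maximalIdeal Λ).map (algebraMap Λ (D ⧸ J))).restrictScalars Λ from Ideal.smul_top_eq_map _,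
            Submodule.restrictScalars_mem, show algebraMap Λ (D ⧸ J) = (Ideal.Quotient.mk J).comp g from rfl,
            ← Ideal.map_map]
          have := Ideal.mem_map_of_mem (Ideal.Quotient.mk J) hx
          rwa [Ideal.map_sup, Ideal.map_quotient_self, sup_bot_eq] at this)
    refine Module.Finite.of_surjective π fun y => ?_
    obtain ⟨y, rfl⟩ := Submodule.mkQ_surjective W y
    obtain ⟨y, rfl⟩ := Ideal.Quotient.mk_surjective y
    exact ⟨Ideal.Quotient.mk _ y, rfl⟩
  -- `D` is finite over the power series ring
  set V := Ideal.span (Set.range (MvPowerSeries.X : Fin d → A))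
  have hV : V.map (algebraMap A D) = J := by
    rw [Ideal.map_span, ← Set.range_comp]
    exact congrArg (fun t => Ideal.span (Set.range t)) (funext hψ)
  haveI hAD : Module.Finite A D := by
    haveI : IsHausdorff V D := by
      refine ⟨fun x hx => ?_⟩
      refine IsHausdorff.haus (I := maximalIdeal D) inferInstance x fun n => ?_
      have h := hx n
      rw [SModEq.sub_mem, sub_zero] at h ⊢
      rw [smul_eq_mul, Ideal.mul_top]
      rw [Ideal.smul_top_eq_map, Submodule.restrictScalars_mem, Ideal.map_pow, hV] at h
      exact Ideal.pow_right_mono (Ideal.span_le.2 (by rintro _ ⟨i, rfl⟩; exact hb i)) n h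
    refine GrothLib.AdicExtra.finite_of_quotient_finite (I := V) ?_
    haveI : IsScalarTower Λ A (D ⧸ J) := IsScalarTower.of_algebraMap_eq fun c =>
      congrArg (Ideal.Quotient.mk J) (ψ.commutes c).symm
    haveI : Module.Finite A (D ⧸ J) := Module.Finite.of_restrictScalars_finite Λ A _
    have heq : (V • ⊤ : Submodule A D) = J.restrictScalars A := by rw [Ideal.smul_top_eq_map, hV]
    exact Module.Finite.equiv ((Submodule.Quotient.restrictScalarsEquiv A J).symm.trans
      (Submodule.quotEquivOfEq _ _ heq.symm))
  -- dimension count: `ψ` is injective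
  have hdimA : ringKrullDim A ≤ ((d + T.card : ℕ) : WithBot ℕ∞) := by
    let G : Finset A := Finset.univ.image MvPowerSeries.X ∪ T.image (algebraMap Λ A)
    have hC : algebraMap Λ A = MvPowerSeries.C := RingHom.ext fun c => by
      simp [MvPowerSeries.algebraMap_apply, A]
    have hm : maximalIdeal A = Ideal.span (G : Set A) := by
      refine le_antisymm ?_ (Ideal.span_le.2 ?_)
      · intro f hf
        have h0 : MvPowerSeries.constantCoeff f ∈ maximalIdeal Λ := by
          rw [IsLocalRing.mem_maximalIdeal, mem_nonunits_iff] at hf ⊢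
          rwa [MvPowerSeries.isUnit_iff_constantCoeff] at hf
        rw [Finset.coe_union, Finset.coe_image, Finset.coe_image, Ideal.span_union, ← Ideal.map_span, ← hT,
          Finset.coe_univ, Set.image_univ]
        rw [← sub_add_cancel f (MvPowerSeries.C (MvPowerSeries.constantCoeff f))]
        refine add_mem (Ideal.mem_sup_left ?_) (Ideal.mem_sup_right ?_)
        · have : f - MvPowerSeries.C (MvPowerSeries.constantCoeff f) ∈
              RingHom.ker (MvPowerSeries.constantCoeff : A →+* Λ) := by simp
          rw [GrothLib.AdicFS.ker_constantCoeff, GrothLib.AdicFS.varsIdeal, MvPolynomial.idealOfVars,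
            Ideal.map_span] at this
          refine Ideal.span_mono ?_ this
          rintro _ ⟨_, ⟨i, rfl⟩, rfl⟩
          exact ⟨i, by simp [MvPowerSeries.algebraMap_apply']⟩
        · rw [hC]
          exact Ideal.mem_map_of_mem _ h0
      · intro x hx
        rw [SetLike.mem_coe, IsLocalRing.mem_maximalIdeal, mem_nonunits_iff, MvPowerSeries.isUnit_iff_constantCoeff]
        rcases Finset.mem_union.1 hx with h | h <;> obtain ⟨y, hy, rfl⟩ := Finset.mem_image.1 h
        · simp
        · have : y ∈ maximalIdeal Λ := hT ▸ Ideal.subset_span hy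
          rw [IsLocalRing.mem_maximalIdeal, mem_nonunits_iff] at this
          rw [hC, MvPowerSeries.constantCoeff_C]
          exact this
    rw [← IsLocalRing.maximalIdeal_height_eq_ringKrullDim]
    have h1 := Ideal.height_le_spanFinrank (maximalIdeal A) (maximalIdeal.isMaximal A).ne_top
    have h2 : (maximalIdeal A).spanFinrank ≤ d + T.card := by
      rw [hm]
      refine (Submodule.spanFinrank_span_le_ncard_of_finite G.finite_toSet).trans ?_
      rw [Set.ncard_coe_finset]
      refine (Finset.card_union_le _ _).trans (add_le_add ?_ Finset.card_image_le)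
      exact Finset.card_image_le.trans (by simp)
    exact_mod_cast h1.trans (by exact_mod_cast h2)
  have hinj : Function.Injective (algebraMap A D) := by
    rw [RingHom.injective_iff_ker_eq_bot]
    by_contra hne
    set q := RingHom.ker (algebraMap A D) with hq
    obtain ⟨r, hr, hr0⟩ := Submodule.exists_mem_ne_zero_of_ne_bot hne
    let ι : A ⧸ q →+* D := RingHom.kerLift (algebraMap A D)
    letI : Algebra (A ⧸ q) D := ι.toAlgebra
    haveI : Module.Finite (A ⧸ q) D := RingHom.Finite.of_comp_finite (f := Ideal.Quotient.mk q) (g := ι)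
      (show (algebraMap A D).Finite from RingHom.finite_algebraMap.2 hAD)
    have h1 : ringKrullDim D = ringKrullDim (A ⧸ q) :=
      GrothLib.Dim.ringKrullDim_eq_of_isIntegral (RingHom.kerLift_injective _)
    have h2 : ringKrullDim (A ⧸ q) ≤ ringKrullDim (A ⧸ Ideal.span {r}) :=
      ringKrullDim_le_of_surjective (Ideal.Quotient.factor ((Ideal.span_singleton_le_iff_mem _).2 hr))
        (Ideal.Quotient.factor_surjective _)
    have h3 := ringKrullDim_quotient_succ_le_of_nonZeroDivisor (mem_nonZeroDivisors_of_ne_zero hr0)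
    have h4 : ringKrullDim D + 1 ≤ ringKrullDim D :=
      (add_le_add (h1 ▸ h2) le_rfl).trans (h3.trans (hdimA.trans hdim))
    obtain ⟨n, hn⟩ := finiteRingKrullDim_iff_ne_bot_and_top.1 (inferInstance : FiniteRingKrullDim D) |> fun h =>
      (⟨_, (WithBot.coe_unbot _ h.1).symm⟩ : ∃ n : ℕ∞, ringKrullDim D = n)
    have hn' : n ≠ ⊤ := fun h => (ringKrullDim_lt_top (R := D)).ne (by rw [hn, h]; rfl)
    lift n to ℕ using hn'
    rw [hn] at h4
    have : n + 1 ≤ n := by exact_mod_cast h4
    omega
  exact isN2_of_finite hinj (GrothLib.N2.isN2_mvPowerSeries Λ hΛ d).2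

end GrothLib.Cohen
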