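import Groth.Agent.Lib.Cohen.NilpotentSmooth
import Groth.Agent.Lib.SepField.Smooth
import Mathlib.RingTheory.Flat.TorsionFree
import Mathlib.RingTheory.TensorProduct.Quotient
import Mathlib.RingTheory.DiscreteValuationRing.Basic
import Mathlib.RingTheory.AdicCompletion.Basic
import Mathlib.Data.ZMod.QuotientRing

/-!
`Λ / pⁿ` is formally smooth over `ℤ / pⁿ` when `Λ` is a `p`-torsion-free domain with `Λ / p` a field.
-/

set_option autoImplicit false
open TensorProduct

namespace GrothLib.Cohen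

universe u

theorem formallySmooth_zmod_pow (Λ : Type u) [CommRing Λ] [IsDomain Λ] [CharZero Λ] (p : ℕ) (hp : p.Prime)
    (hm : (Ideal.span {(p : Λ)}).IsMaximal) (n : ℕ) (hn : 1 ≤ n)
    [Algebra (ZMod (p ^ n)) (Λ ⧸ Ideal.span {((p : Λ) ^ n)})] :
    Algebra.FormallySmooth (ZMod (p ^ n)) (Λ ⧸ Ideal.span {((p : Λ) ^ n)}) := by
  haveI := Fact.mk hp
  let Z := ULift.{u} ℤ
  let eZ : Z ≃+* ℤ := ULift.ringEquiv
  haveI : IsPrincipalIdealRing Z := IsPrincipalIdealRing.of_surjective eZ.symm.toRingHom eZ.symm.surjective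
  haveI : IsDomain Z := eZ.toMulEquiv.isDomain ℤ
  let I : Ideal Z := Ideal.span {((p : Z) ^ n)}
  letI : Algebra Z Λ :=
    { (inferInstance : Module Z Λ) with
      algebraMap := (Int.castRingHom Λ).comp eZ.toRingHom
      commutes' := fun _ _ => mul_comm _ _
      smul_def' := fun a x => zsmul_eq_mul x a.down }
  haveI : Module.Flat Z Λ := by
    rw [Module.Flat.flat_iff_torsion_eq_bot_of_isBezout]
    refine (Submodule.eq_bot_iff _).2 fun x hx => ?_
    obtain ⟨⟨a, ha⟩, hax⟩ := (Submodule.mem_torsion_iff x).1 hx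
    rw [Submonoid.mk_smul] at hax
    have h0 : algebraMap Z Λ a * x = 0 := by
      rw [← Algebra.smul_def]; exact hax
    refine (mul_eq_zero.1 h0).resolve_left fun h => nonZeroDivisors.ne_zero ha (eZ.injective ?_)
    rw [map_zero]
    exact Int.cast_eq_zero.1 h
  let Q := Z ⧸ I
  let S := Λ ⧸ I.map (algebraMap Z Λ)
  haveI : Module.Flat Q (Q ⊗[Z] Λ) := Module.Flat.baseChange Z Q Λ
  haveI : Module.Flat Q S :=
    Module.Flat.of_linearEquiv (Algebra.TensorProduct.quotIdealMapEquivQuotTensor Λ I).toLinearEquiv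
  let N : Ideal Q := Ideal.span {(p : Q)}
  have hN : IsNilpotent N := by
    refine ⟨n, ?_⟩
    rw [Ideal.span_singleton_pow, Ideal.zero_eq_bot, Ideal.span_singleton_eq_bot]
    rw [← map_natCast (Ideal.Quotient.mk I), ← map_pow]
    exact Ideal.Quotient.eq_zero_iff_mem.2 (Ideal.subset_span rfl)
  -- the residue rings are fields of characteristic `p`
  have hIle : I ≤ Ideal.span {(p : Z)} := (Ideal.span_singleton_le_iff_mem _).2
    (Ideal.mem_span_singleton.2 (dvd_pow_self _ (by omega)))
  have hNmax : N.IsMaximal := by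
    have hmax : (Ideal.span {(p : Z)}).IsMaximal := by
      refine PrincipalIdealRing.isMaximal_of_irreducible ?_
      rw [← MulEquiv.irreducible_iff eZ.toMulEquiv]
      have := (Nat.prime_iff_prime_int.1 hp).irreducible
      rw [← map_natCast eZ p] at this
      exact this
    have := hmax
    rw [show N = (Ideal.span {(p : Z)}).map (Ideal.Quotient.mk I) by
      rw [Ideal.map_span, Set.image_singleton, map_natCast]]
    exact Ideal.IsMaximal.map_of_surjective_of_ker_le Ideal.Quotient.mk_surjective (by rw [Ideal.mk_ker]; exact hIle)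
  have hImap : I.map (algebraMap Z Λ) = Ideal.span {((p : Λ) ^ n)} := by
    rw [Ideal.map_span, Set.image_singleton, map_pow, map_natCast]
  have hNS : (N.map (algebraMap Q S)).IsMaximal := by
    have hN' : N.map (algebraMap Q S) = (Ideal.span {(p : Λ)}).map (Ideal.Quotient.mk (I.map (algebraMap Z Λ))) := by
      refine (Ideal.map_span _ _).trans ((congrArg Ideal.span ?_).trans (Ideal.map_span _ _).symm)
      simp only [Set.image_singleton]
      exact congrArg _ ((map_natCast (algebraMap Q S) p).trans (map_natCast (Ideal.Quotient.mk (I.map (algebraMap Z Λ))) p).symm)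
    rw [hN']
    have := hm
    refine Ideal.IsMaximal.map_of_surjective_of_ker_le Ideal.Quotient.mk_surjective ?_
    rw [Ideal.mk_ker, hImap]
    exact (Ideal.span_singleton_le_iff_mem _).2 (Ideal.mem_span_singleton.2 (dvd_pow_self _ (by omega)))
  letI : Field (Q ⧸ N) := Ideal.Quotient.field N
  letI : Field (S ⧸ N.map (algebraMap Q S)) := Ideal.Quotient.field _
  haveI : CharP (Q ⧸ N) p := by
    exact (CharP.charP_iff_prime_eq_zero hp).2 (by
      rw [← map_natCast (Ideal.Quotient.mk N)]
      exact Ideal.Quotient.eq_zero_iff_mem.2 (Ideal.subset_span rfl))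
  haveI : CharP (S ⧸ N.map (algebraMap Q S)) p := (CharP.charP_iff_prime_eq_zero hp).2 (by
      rw [← map_natCast (Ideal.Quotient.mk (N.map (algebraMap Q S)))]
      refine Ideal.Quotient.eq_zero_iff_mem.2 ?_
      rw [← map_natCast (algebraMap Q S)]
      exact Ideal.mem_map_of_mem _ (Ideal.subset_span rfl))
  haveI : Finite (Q ⧸ N) := by
    let q : ZMod p →+* Q ⧸ N := ZMod.castHom dvd_rfl _
    refine Finite.of_surjective q fun z => ?_
    obtain ⟨z, rfl⟩ := Ideal.Quotient.mk_surjective z
    obtain ⟨z, rfl⟩ := Ideal.Quotient.mk_surjective z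
    refine ⟨((eZ z : ℤ) : ZMod p), ?_⟩
    rw [map_intCast, ← map_intCast ((Ideal.Quotient.mk N).comp (Ideal.Quotient.mk I)), RingHom.comp_apply]
    congr 2
  haveI : PerfectRing (Q ⧸ N) p := PerfectRing.ofFiniteOfIsReduced p _
  haveI : Algebra.FormallySmooth (Q ⧸ N) (S ⧸ N.map (algebraMap Q S)) :=
    GrothLib.SepField.formallySmooth_perfect p
  haveI := formallySmooth_of_flat_of_nilpotent (R := Q) (S := S) N hN
  -- descend to `ZMod`
  let e : ℤ ⧸ Ideal.span {((p ^ n : ℕ) : ℤ)} ≃+* ZMod (p ^ n) := Int.quotientSpanNatEquivZMod _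
  let φ : ZMod (p ^ n) →+* Q := (Ideal.Quotient.lift _ ((Ideal.Quotient.mk I).comp eZ.symm.toRingHom) (fun z hz => by
      rw [RingHom.comp_apply]
      refine Ideal.Quotient.eq_zero_iff_mem.2 ?_
      rw [Ideal.mem_span_singleton] at hz ⊢
      have h2 := map_dvd eZ.symm.toRingHom hz
      rw [map_natCast, Nat.cast_pow] at h2
      exact h2)).comp e.symm.toRingHom
  have hφ : Function.Bijective φ := by
    simp only [φ, RingHom.coe_comp, RingEquiv.toRingHom_eq_coe, RingHom.coe_coe]
    refine (Function.Bijective.comp ?_ e.symm.bijective)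
    constructor
    · refine RingHom.lift_injective_of_ker_le_ideal _ _ fun z hz => ?_
      rw [RingHom.mem_ker, RingHom.comp_apply, Ideal.Quotient.eq_zero_iff_mem, Ideal.mem_span_singleton] at hz
      rw [Ideal.mem_span_singleton]
      simpa using map_dvd eZ.toRingHom hz
    · exact Ideal.Quotient.lift_surjective_of_surjective _ _
        (Ideal.Quotient.mk_surjective.comp eZ.symm.surjective)
  letI : Algebra (ZMod (p ^ n)) Q := φ.toAlgebra
  haveI : Algebra.FormallySmooth (ZMod (p ^ n)) Q :=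
    Algebra.FormallySmooth.of_equiv (AlgEquiv.ofBijective (Algebra.ofId (ZMod (p ^ n)) Q) hφ)
  letI : Algebra (ZMod (p ^ n)) S := ((algebraMap Q S).comp φ).toAlgebra
  haveI : IsScalarTower (ZMod (p ^ n)) Q S := IsScalarTower.of_algebraMap_eq fun _ => rfl
  haveI := Algebra.FormallySmooth.comp (ZMod (p ^ n)) Q S
  exact Algebra.FormallySmooth.of_equiv (AlgEquiv.ofRingEquiv (f := Ideal.quotEquivOfEq hImap)
    fun z => RingHom.congr_fun (RingHom.ext_zmod ((Ideal.quotEquivOfEq hImap).toRingHom.comp (algebraMap _ S)) (algebraMap _ _)) z)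

theorem charZero_of_maximalIdeal_eq_span (Λ : Type u) [CommRing Λ] [IsDomain Λ] [IsDiscreteValuationRing Λ]
    (p : ℕ) (hp : p.Prime) (hm : IsLocalRing.maximalIdeal Λ = Ideal.span {(p : Λ)}) : CharZero Λ := by
  obtain ⟨q, hq⟩ := CharP.exists Λ
  rcases CharP.char_is_prime_or_zero Λ q with hq' | rfl
  · exfalso
    have hp0 : (p : Λ) ≠ 0 := fun h => IsDiscreteValuationRing.not_a_field Λ (by rw [hm, h, Ideal.span_singleton_eq_bot])
    have hne : p ≠ q := fun h => hp0 (h ▸ CharP.cast_eq_zero Λ q)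
    obtain ⟨a, b, hab⟩ := Nat.isCoprime_iff_coprime.2 ((Nat.coprime_primes hp hq').2 hne)
    have h1 : (a : Λ) * (p : Λ) + (b : Λ) * (q : Λ) = 1 := by exact_mod_cast congrArg (Int.cast (R := Λ)) hab
    rw [CharP.cast_eq_zero Λ q, mul_zero, add_zero] at h1
    refine (IsLocalRing.maximalIdeal.isMaximal Λ).ne_top ((Ideal.eq_top_iff_one _).2 ?_)
    rw [hm, ← h1]
    exact Ideal.mul_mem_left _ _ (Ideal.subset_span rfl)
  · exact CharP.charP_to_charZero Λ

end GrothLib.Cohen
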