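import Groth.Agent.Lib.Cohen.Exists
import Groth.Agent.Lib.Cohen.Smooth
import Groth.Agent.Lib.CoeffField.Basic
import Groth.Agent.Lib.RegLoc.PowerSeries

/-!
# Cohen structure theorem: complete local rings are quotients of power series rings
-/

set_option autoImplicit false

namespace GrothLib.Cohen

universe u

open IsLocalRing

/-- The `ℤ / N`-algebra structure on a ring in which `N = 0`. -/
noncomputable def zmodHom (N : ℕ) (A : Type u) [CommRing A] (h : (N : A) = 0) : ZMod N →+* A :=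
  (Ideal.Quotient.lift (Ideal.span {(N : ℤ)}) (Int.castRingHom A) fun z hz => by
    obtain ⟨c, rfl⟩ := Ideal.mem_span_singleton.1 hz
    simp [h]).comp (Int.quotientSpanNatEquivZMod N).symm.toRingHom

/-- A Cohen ring maps to any complete local ring with residue field receiving the residue field. -/
theorem exists_lift {Λ R : Type u} [CommRing Λ] [IsDomain Λ] [IsDiscreteValuationRing Λ]
    (p : ℕ) (hp : p.Prime) (hm : maximalIdeal Λ = Ideal.span {(p : Λ)})
    [CommRing R] [IsLocalRing R] [IsAdicComplete (maximalIdeal R) R]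
    (hpR : (p : R) ∈ maximalIdeal R) (σ : ResidueField Λ →+* ResidueField R) :
    ∃ g : Λ →+* R, (residue R).comp g = σ.comp (residue Λ) := by
  classical
  haveI := charZero_of_maximalIdeal_eq_span Λ p hp hm
  set m := maximalIdeal R with hmdef
  let fac : ∀ n : ℕ, R ⧸ m ^ (n + 2) →+* R ⧸ m ^ (n + 1) := fun n =>
    Ideal.Quotient.factor (Ideal.pow_le_pow_right (Nat.le_succ _))
  have hpz : ∀ k : ℕ, ((p ^ k : ℕ) : R ⧸ m ^ k) = 0 := fun k => by
    rw [← map_natCast (Ideal.Quotient.mk (m ^ k)), Ideal.Quotient.eq_zero_iff_mem, Nat.cast_pow]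
    exact Ideal.pow_mem_pow hpR k
  have hstep : ∀ (n : ℕ) (g : Λ →+* R ⧸ m ^ (n + 1)),
      ∃ g' : Λ →+* R ⧸ m ^ (n + 2), (fac n).comp g' = g := by
    intro n g
    let I : Ideal Λ := Ideal.span {((p : Λ) ^ (n + 2))}
    have hI : ((p ^ (n + 2) : ℕ) : Λ ⧸ I) = 0 := by
      rw [← map_natCast (Ideal.Quotient.mk I), Ideal.Quotient.eq_zero_iff_mem, Nat.cast_pow]
      exact Ideal.subset_span rfl
    have hB : ((p ^ (n + 2) : ℕ) : R ⧸ m ^ (n + 1)) = 0 := by
      rw [show p ^ (n + 2) = p ^ (n + 1) * p from pow_succ p (n + 1), Nat.cast_mul, hpz (n + 1), zero_mul]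
    have hgI : ∀ x ∈ I, g x = 0 := fun x hx => by
      obtain ⟨c, rfl⟩ := Ideal.mem_span_singleton.1 hx
      rw [map_mul, map_pow, map_natCast, ← Nat.cast_pow, hB, zero_mul]
    letI : Algebra (ZMod (p ^ (n + 2))) (Λ ⧸ I) := (zmodHom _ _ hI).toAlgebra
    letI : Algebra (ZMod (p ^ (n + 2))) (R ⧸ m ^ (n + 2)) := (zmodHom _ _ (hpz (n + 2))).toAlgebra
    letI : Algebra (ZMod (p ^ (n + 2))) (R ⧸ m ^ (n + 1)) := (zmodHom _ _ hB).toAlgebra
    haveI : Algebra.FormallySmooth (ZMod (p ^ (n + 2))) (Λ ⧸ I) :=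
      formallySmooth_zmod_pow Λ p hp (hm ▸ maximalIdeal.isMaximal Λ) (n + 2) (by omega)
    let f : Λ ⧸ I →ₐ[ZMod (p ^ (n + 2))] R ⧸ m ^ (n + 1) :=
      { Ideal.Quotient.lift I g hgI with
        commutes' := fun z => RingHom.congr_fun
          (RingHom.ext_zmod ((Ideal.Quotient.lift I g hgI).comp (algebraMap _ _)) (algebraMap _ _)) z }
    let π : R ⧸ m ^ (n + 2) →ₐ[ZMod (p ^ (n + 2))] R ⧸ m ^ (n + 1) :=
      { fac n with
        commutes' := fun z => RingHom.congr_fun
          (RingHom.ext_zmod ((fac n).comp (algebraMap _ _)) (algebraMap _ _)) z }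
    have hπs : Function.Surjective π :=
      Ideal.Quotient.factor_surjective (Ideal.pow_le_pow_right (Nat.le_succ _))
    have hπn : IsNilpotent (RingHom.ker (π : R ⧸ m ^ (n + 2) →+* R ⧸ m ^ (n + 1))) := by
      refine ⟨2, le_bot_iff.1 ?_⟩
      have hk : RingHom.ker (π : R ⧸ m ^ (n + 2) →+* R ⧸ m ^ (n + 1)) ≤
          (m ^ (n + 1)).map (Ideal.Quotient.mk (m ^ (n + 2))) := by
        intro x hx
        obtain ⟨y, rfl⟩ := Ideal.Quotient.mk_surjective x
        refine Ideal.mem_map_of_mem _ ?_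
        rw [RingHom.mem_ker] at hx
        exact Ideal.Quotient.eq_zero_iff_mem.1 hx
      refine (Ideal.pow_right_mono hk 2).trans ?_
      rw [← Ideal.map_pow, ← pow_mul, ← Ideal.map_quotient_self (m ^ (n + 2))]
      exact Ideal.map_mono (Ideal.pow_le_pow_right (by omega))
    refine ⟨(Algebra.FormallySmooth.liftOfSurjective f π hπs hπn).toRingHom.comp (Ideal.Quotient.mk I),
      RingHom.ext fun x => ?_⟩
    exact AlgHom.congr_fun (Algebra.FormallySmooth.comp_liftOfSurjective f π hπs hπn)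
      (Ideal.Quotient.mk I x)
  choose step hstep using hstep
  have hle : maximalIdeal R ≤ m ^ (0 + 1) := le_of_eq (by simp [hmdef])
  let g0 : Λ →+* R ⧸ m ^ (0 + 1) := (Ideal.Quotient.factor hle).comp (σ.comp (residue Λ))
  let g : ∀ n : ℕ, Λ →+* R ⧸ m ^ (n + 1) := fun n => Nat.rec g0 (fun n gn => step n gn) n
  have ha : StrictMono fun n : ℕ => n + 1 := fun a b h => Nat.add_lt_add_right h 1
  let s := IsAdicComplete.StrictMono.liftRingHom m ha g (fun {n} => hstep n (g n))
  refine ⟨s, RingHom.ext fun x => ?_⟩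
  obtain ⟨r, hr⟩ := residue_surjective (σ (residue Λ x))
  rw [RingHom.comp_apply, RingHom.comp_apply, ← hr]
  refine Ideal.Quotient.eq.2 ?_
  have h0 : Ideal.Quotient.mk (m ^ (0 + 1)) (s x) = g 0 x :=
    IsAdicComplete.StrictMono.mk_liftRingHom m ha _ _ x
  have h1 : g 0 x = Ideal.Quotient.mk (m ^ (0 + 1)) r := by
    change Ideal.Quotient.factor hle (σ (residue Λ x)) = _
    rw [← hr]; rfl
  rw [h1, Ideal.Quotient.eq] at h0
  exact Ideal.pow_le_self (by omega) h0

/-- Evaluation at generators of the maximal ideal is surjective. -/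
theorem exists_surjective_of_residue_surjective {Λ R : Type u} [CommRing Λ] [CommRing R] [IsLocalRing R]
    [IsAdicComplete (maximalIdeal R) R] (hfg : (maximalIdeal R).FG) (g : Λ →+* R)
    (hg : Function.Surjective ((residue R).comp g)) :
    ∃ (n : ℕ) (f : MvPowerSeries (Fin n) Λ →+* R), Function.Surjective f := by
  obtain ⟨S, hS⟩ := hfg
  let b : Fin S.card → R := fun i => (S.equivFin.symm i : R)
  have hb : Ideal.span (Set.range b) = maximalIdeal R := by
    have h : Set.range b = (S : Set R) := by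
      rw [show b = Subtype.val ∘ S.equivFin.symm from rfl, Set.range_comp,
        S.equivFin.symm.surjective.range_eq, Set.image_univ, Subtype.range_coe_subtype]
      rfl
    rw [h]; exact hS
  letI : Algebra Λ R := g.toAlgebra
  obtain ⟨ψ, hψ⟩ := GrothLib.RegLoc.PS.exists_algHom (A := Λ) (maximalIdeal R) b
    (fun i => hb ▸ Ideal.subset_span ⟨i, rfl⟩)
  refine ⟨S.card, ψ.toRingHom, ?_⟩
  set I := Ideal.span (Set.range (MvPowerSeries.X : Fin S.card → MvPowerSeries (Fin S.card) Λ))
  have hI : I.map ψ.toRingHom = maximalIdeal R := by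
    rw [Ideal.map_span, ← Set.range_comp, ← hb]
    exact congrArg (fun t => Ideal.span (Set.range t)) (funext hψ)
  haveI : IsHausdorff (I.map ψ.toRingHom) R := by rw [hI]; infer_instance
  refine surjective_of_mk_map_comp_surjective (I := I) ψ.toRingHom fun y => ?_
  obtain ⟨r, rfl⟩ := Ideal.Quotient.mk_surjective y
  obtain ⟨c, hc⟩ := hg (residue R r)
  refine ⟨algebraMap Λ _ c, ?_⟩
  refine Ideal.Quotient.eq.2 ?_
  rw [hI, AlgHom.toRingHom_eq_coe, RingHom.coe_coe, ψ.commutes]
  exact Ideal.Quotient.eq.1 hc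

theorem exists_surjective_mvPowerSeries (R : Type u) [CommRing R] [IsLocalRing R]
    [IsAdicComplete (maximalIdeal R) R] (hfg : (maximalIdeal R).FG) :
    ∃ (Λ : Type u) (_ : CommRing Λ) (n : ℕ) (f : MvPowerSeries (Fin n) Λ →+* R),
      (IsField Λ ∨ CAlg.IsCohenRing Λ) ∧ Function.Surjective f := by
  obtain ⟨q, hq⟩ := CharP.exists (ResidueField R)
  rcases CharP.char_is_prime_or_zero (ResidueField R) q with hp | rfl
  · obtain ⟨Λ, _, _, hΛ, ⟨e⟩⟩ := exists_cohenRing q hp (ResidueField R)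
    obtain ⟨hd, hv, hc, p, hp', hm⟩ := hΛ
    have hqp : p = q := by
      have h1 : (p : ResidueField R) = 0 := by
        rw [← map_natCast e, ← map_natCast (residue Λ), (residue_eq_zero_iff _).2
          (hm ▸ Ideal.subset_span rfl), map_zero]
      exact ((Nat.prime_dvd_prime_iff_eq hp hp').1 ((CharP.cast_eq_zero_iff _ q p).1 h1)).symm
    subst hqp
    have hpR : (p : R) ∈ maximalIdeal R := by
      rw [← residue_eq_zero_iff, map_natCast, CharP.cast_eq_zero]
    obtain ⟨g, hg⟩ := exists_lift p hp' hm hpR e.toRingHom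
    obtain ⟨n, f, hf⟩ := exists_surjective_of_residue_surjective hfg g (by
      rw [hg]; exact e.surjective.comp residue_surjective)
    exact ⟨Λ, inferInstance, n, f, Or.inr ⟨hd, hv, hc, p, hp', hm⟩, hf⟩
  · haveI : CharZero (ResidueField R) := CharP.charP_to_charZero _
    obtain ⟨halg⟩ := GrothLib.CoeffField.nonempty_algebra_rat R
    obtain ⟨s, hs⟩ := GrothLib.CoeffField.exists_coefficientField (ULift.{u} ℚ) R
    obtain ⟨n, f, hf⟩ := exists_surjective_of_residue_surjective hfg s (by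
      rw [hs]; exact Function.surjective_id)
    exact ⟨ResidueField R, inferInstance, n, f, Or.inl (Field.toIsField _), hf⟩

end GrothLib.Cohen
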