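import Groth.Agent.Lib.Gonflement.Main
import Groth.Agent.Lib.AdicExtra.Completion
import Groth.Prelude.Def_Found
import Mathlib.RingTheory.Localization.AtPrime.Basic
import Mathlib.RingTheory.Flat.Stability
import Mathlib.RingTheory.Flat.TorsionFree
import Mathlib.RingTheory.Int.Basic

/-!
# Existence of Cohen rings
-/

set_option autoImplicit false

namespace GrothLib.Cohen

universe u

open IsLocalRing

theorem exists_cohenRing (p : ℕ) (hp : p.Prime) (k : Type u) [Field k] [CharP k p] :
    ∃ (Λ : Type u) (_ : CommRing Λ) (_ : IsLocalRing Λ), CAlg.IsCohenRing Λ ∧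
      Nonempty (ResidueField Λ ≃+* k) := by
  classical
  haveI := Fact.mk hp
  let Z := ULift.{u} ℤ
  let eZ : Z ≃+* ℤ := ULift.ringEquiv
  haveI : IsPrincipalIdealRing Z := IsPrincipalIdealRing.of_surjective eZ.symm.toRingHom eZ.symm.surjective
  haveI : IsDomain Z := eZ.toMulEquiv.isDomain ℤ
  let P : Ideal Z := Ideal.span {(p : Z)}
  have hirr : Irreducible (p : Z) := by
    rw [← MulEquiv.irreducible_iff eZ.toMulEquiv]
    have := (Nat.prime_iff_prime_int.1 hp).irreducible
    rw [← map_natCast eZ p] at this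
    exact this
  haveI hPmax : P.IsMaximal := PrincipalIdealRing.isMaximal_of_irreducible hirr
  haveI : P.IsPrime := hPmax.isPrime
  let R := Localization.AtPrime P
  haveI : IsNoetherianRing R := IsLocalization.isNoetherianRing P.primeCompl R inferInstance
  let f0 : Z →+* k := (Int.castRingHom k).comp eZ.toRingHom
  have hker0 : RingHom.ker f0 = P := by
    refine (hPmax.eq_of_le (RingHom.ker_ne_top _) ((Ideal.span_singleton_le_iff_mem _).2 ?_)).symm
    rw [RingHom.mem_ker, map_natCast, CharP.cast_eq_zero k p]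
  have hu : ∀ y : P.primeCompl, IsUnit (f0 y) := fun y =>
    isUnit_iff_ne_zero.2 fun h => y.2 (hker0.le (RingHom.mem_ker.2 h))
  let f : R →+* k := IsLocalization.lift hu
  have hmR : maximalIdeal R = Ideal.span {(p : R)} := by
    rw [← IsLocalization.AtPrime.map_eq_maximalIdeal P R, Ideal.map_span, Set.image_singleton, map_natCast]
  have hle : maximalIdeal R ≤ RingHom.ker f := by
    rw [hmR, Ideal.span_singleton_le_iff_mem, RingHom.mem_ker, map_natCast, CharP.cast_eq_zero k p]
  letI : Algebra (ResidueField R) k := (Ideal.Quotient.lift (maximalIdeal R) f fun a ha => hle ha).toAlgebra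
  obtain ⟨B, _, φ, ψ, hN, hL, hflat, hsurj, hkψ, -⟩ := GrothLib.Gonflement.exists_flat_local (R := R) k
  -- the maximal ideal of `B`
  have hmB : maximalIdeal B = Ideal.span {(p : B)} := by
    have h1 : (RingHom.ker ψ).IsMaximal := RingHom.ker_isMaximal_of_surjective ψ hsurj
    rw [← IsLocalRing.eq_maximalIdeal h1, hkψ, hmR, Ideal.map_span, Set.image_singleton, map_natCast]
  have hpR : IsRegular (p : R) := by
    haveI : IsDomain R := IsLocalization.isDomain_localization P.primeCompl_le_nonZeroDivisors
    refine isRegular_iff_ne_zero.2 fun h => hirr.ne_zero ?_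
    refine (IsLocalization.injective R P.primeCompl_le_nonZeroDivisors) ?_
    rw [map_natCast, map_zero]; exact h
  have hpB : IsRegular (p : B) := by
    letI : Algebra R B := φ.toAlgebra
    haveI : Module.Flat R B := hflat
    have h2 : IsSMulRegular B (p : R) :=
      Module.Flat.isSMulRegular_of_isRegular hpR
    have h3 : IsLeftRegular (p : B) := fun x y hxy => h2 (by
      show (p : R) • x = (p : R) • y
      rw [Algebra.smul_def, Algebra.smul_def]
      erw [map_natCast (algebraMap R B) p]
      exact hxy)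
    exact ⟨h3, fun x y hxy => h3 (by simpa only [mul_comm (p : B)] using hxy)⟩
  have hnt : Nontrivial B := inferInstance
  haveI hdom : IsDomain B := by
    have hdec : ∀ x : B, x ≠ 0 → ∃ (n : ℕ) (v : B), IsUnit v ∧ x = (p : B) ^ n * v := by
      intro x hx
      have hex : ∃ n, x ∉ maximalIdeal B ^ n := by
        by_contra! h
        refine hx ?_
        have h3 : x ∈ (⨅ i, maximalIdeal B ^ i) := Ideal.mem_iInf.2 h
        rwa [Ideal.iInf_pow_eq_bot_of_isLocalRing _ (maximalIdeal.isMaximal B).ne_top] at h3
      obtain ⟨n, hn⟩ : ∃ n, Nat.find hex = n + 1 := by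
        refine ⟨Nat.find hex - 1, ?_⟩
        have : Nat.find hex ≠ 0 := fun h0 => Nat.find_spec hex (by simp [h0])
        omega
      have h1 : x ∈ maximalIdeal B ^ n := not_not.1 (Nat.find_min hex (by omega))
      rw [hmB, Ideal.span_singleton_pow, Ideal.mem_span_singleton] at h1
      obtain ⟨v, rfl⟩ := h1
      refine ⟨n, v, ?_, rfl⟩
      by_contra hv
      refine Nat.find_spec hex ?_
      rw [hn, pow_succ]
      exact Ideal.mul_mem_mul (Ideal.pow_mem_pow (hmB ▸ Ideal.subset_span rfl) n) hv
    haveI : NoZeroDivisors B := ⟨fun {a b} hab => by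
      by_contra! h
      obtain ⟨n, v, hv, rfl⟩ := hdec a h.1
      obtain ⟨m, w, hw, rfl⟩ := hdec b h.2
      rw [mul_mul_mul_comm, ← pow_add, (hv.mul hw).mul_left_eq_zero] at hab
      exact (hpB.pow (n + m)).left.ne_zero hab⟩
    exact NoZeroDivisors.to_isDomain B
  haveI : IsDiscreteValuationRing B := by
    have hnf : ¬ IsField B := fun hF => by
      have h4 := IsLocalRing.isField_iff_maximalIdeal_eq.1 hF
      rw [hmB, Ideal.span_singleton_eq_bot] at h4
      exact hpB.left.ne_zero h4
    exact ((IsDiscreteValuationRing.TFAE B hnf).out 0 4 rfl rfl).2 ⟨⟨(p : B), hmB⟩⟩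
  obtain ⟨hΛd, hΛv⟩ := GrothLib.AdicExtra.exists_dvr_adicCompletion_iff.1
    ⟨hdom, (inferInstance : IsDiscreteValuationRing B)⟩
  refine ⟨AdicCompletion (maximalIdeal B) B, inferInstance, inferInstance,
    ⟨hΛd, hΛv, inferInstance, p, hp, ?_⟩, ⟨?_⟩⟩
  · rw [AdicCompletion.maximalIdeal_eq_map]
    refine (congrArg (Ideal.map _) hmB).trans ?_
    rw [Ideal.map_span, Set.image_singleton, map_natCast]
  · exact (RingEquiv.ofBijective _ (AdicCompletion.residueField_map_bijective_of_fg
      (maximalIdeal B).fg_of_isNoetherianRing)).symm.trans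
      ((Ideal.quotEquivOfEq (IsLocalRing.eq_maximalIdeal
        (RingHom.ker_isMaximal_of_surjective ψ hsurj)).symm).trans
        (RingHom.quotientKerEquivOfSurjective hsurj))

end GrothLib.Cohen
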