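import Groth.Agent.Lib.UnivInj.Basic
import Mathlib.RingTheory.Smooth.Basic
import Mathlib.Algebra.MvPolynomial.Derivation
import Mathlib.LinearAlgebra.TensorProduct.Quotient
import Mathlib.RingTheory.Nilpotent.Basic

/-!
A flat algebra which is formally smooth modulo a nilpotent ideal of the base is formally smooth.
-/

set_option autoImplicit false
open TensorProduct

namespace GrothLib.Cohen

universe u

variable {R P S : Type u} [CommRing R] [CommRing P] [CommRing S] [Algebra R P] [Algebra R S] [Algebra P S]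
  [IsScalarTower R P S]

/-- `I ∩ N P = N I` when `P / I` is flat. -/
theorem mem_smul_ker_of_mem_map (hsurj : Function.Surjective (algebraMap P S)) [Module.Flat R S] (N : Ideal R)
    (x : RingHom.ker (algebraMap P S)) (hx : (x : P) ∈ N.map (algebraMap R P)) :
    x ∈ N • (⊤ : Submodule R (RingHom.ker (algebraMap P S))) := by
  let I := RingHom.ker (algebraMap P S)
  let f : I →ₗ[R] P := (Submodule.subtype I).restrictScalars R
  let g : P →ₗ[R] S := (IsScalarTower.toAlgHom R P S).toLinearMap
  have hui := GrothLib.UnivInj.of_flat_quotient (f := f) (g := g) Subtype.val_injective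
    (fun y => ⟨fun hy => ⟨⟨y, hy⟩, rfl⟩, by rintro ⟨z, rfl⟩; exact z.2⟩) hsurj
  have hx' : (x : P) ∈ N • (⊤ : Submodule R P) := by
    rw [Ideal.smul_top_eq_map]; exact hx
  have h1 : (Ideal.Quotient.mk N 1 : R ⧸ N) ⊗ₜ[R] (x : P) = 0 :=
    (TensorProduct.quotTensorEquivQuotSMul P N).injective (by
      rw [TensorProduct.quotTensorEquivQuotSMul_mk_tmul, one_smul, map_zero, Submodule.Quotient.mk_eq_zero]
      exact hx')
  have h2 : (Ideal.Quotient.mk N 1 : R ⧸ N) ⊗ₜ[R] x = 0 :=
    GrothLib.UnivInj.lTensor_injective hui (R ⧸ N) (by rw [map_zero, LinearMap.lTensor_tmul]; exact h1)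
  have h3 := congrArg (TensorProduct.quotTensorEquivQuotSMul I N) h2
  rw [TensorProduct.quotTensorEquivQuotSMul_mk_tmul, one_smul, map_zero, Submodule.Quotient.mk_eq_zero] at h3
  exact h3

/-- If `M` is killed by a power of `N` and `e ≡ 1` modulo `N M`, then `e` is bijective. -/
theorem isUnit_end_of_sub_mem {M : Type u} [AddCommGroup M] [Module R M] [Module P M] [IsScalarTower R P M]
    (N : Ideal R) (hN : IsNilpotent N) (e : Module.End P M) (he : ∀ m, m - e m ∈ N • (⊤ : Submodule R M)) :
    IsUnit e := by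
  obtain ⟨k, hk⟩ := hN
  let t : Module.End P M := 1 - e
  have ht : ∀ (j : ℕ) (m : M), (t ^ j) m ∈ N ^ j • (⊤ : Submodule R M) := by
    intro j
    induction j with
    | zero => intro m; simp
    | succ j ih =>
      intro m
      rw [pow_succ N, Submodule.mul_smul, pow_succ' t, Module.End.mul_apply]
      have hm := ih m
      generalize (t ^ j) m = y at hm
      refine Submodule.smul_induction_on hm (fun r hr z _ => ?_) (fun a b ha hb => ?_)
      · rw [LinearMap.map_smul_of_tower]
        exact Submodule.smul_mem_smul hr (he z)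
      · rw [map_add]; exact add_mem ha hb
  have hnil : IsNilpotent t := ⟨k, LinearMap.ext fun m => by simpa [hk] using ht k m⟩
  simpa [t] using hnil.isUnit_one_sub

/-- A flat algebra, formally smooth modulo a nilpotent ideal of the base, is formally smooth. -/
theorem formallySmooth_of_flat_of_nilpotent {R S : Type u} [CommRing R] [CommRing S] [Algebra R S]
    [Module.Flat R S] (N : Ideal R) (hN : IsNilpotent N)
    [Algebra.FormallySmooth (R ⧸ N) (S ⧸ N.map (algebraMap R S))] : Algebra.FormallySmooth R S := by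
  classical
  let P := MvPolynomial S R
  letI : Algebra P S := (MvPolynomial.aeval (id : S → S)).toRingHom.toAlgebra
  haveI : IsScalarTower R P S := IsScalarTower.of_algebraMap_eq fun r => (MvPolynomial.aeval_C _ r).symm
  have hsurj : Function.Surjective (algebraMap P S) := fun s => ⟨MvPolynomial.X s, MvPolynomial.aeval_X _ s⟩
  let I : Ideal P := RingHom.ker (algebraMap P S)
  let A : Ideal P := I ^ 2 ⊔ N.map (algebraMap R P)
  let J : Ideal (P ⧸ A) := I.map (Ideal.Quotient.mk A)
  have hJ : J ^ 2 = ⊥ := by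
    rw [← Ideal.map_pow, Ideal.map_eq_bot_iff_le_ker, Ideal.mk_ker]
    exact le_sup_left
  have hNA : ∀ r ∈ N, algebraMap R (P ⧸ A) r = 0 := fun r hr =>
    Ideal.Quotient.eq_zero_iff_mem.2 (Ideal.mem_sup_right (Ideal.mem_map_of_mem _ hr))
  letI : Algebra (R ⧸ N) (P ⧸ A) := (Ideal.Quotient.lift N (algebraMap R (P ⧸ A)) hNA).toAlgebra
  haveI : IsScalarTower R (R ⧸ N) (P ⧸ A) := IsScalarTower.of_algebraMap_eq fun r => rfl
  have hψ₁ : ∀ a ∈ I, (Ideal.Quotient.mk J).comp (Ideal.Quotient.mk A) a = 0 := fun a ha =>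
    Ideal.Quotient.eq_zero_iff_mem.2 (Ideal.mem_map_of_mem _ ha)
  let ψ' : S →+* (P ⧸ A) ⧸ J := (Ideal.Quotient.lift I ((Ideal.Quotient.mk J).comp (Ideal.Quotient.mk A)) hψ₁).comp
    (RingHom.quotientKerEquivOfSurjective hsurj).symm.toRingHom
  have hψ' : ∀ a : P, ψ' (algebraMap P S a) = Ideal.Quotient.mk J (Ideal.Quotient.mk A a) := fun a => by
    have h : (RingHom.quotientKerEquivOfSurjective hsurj).symm (algebraMap P S a) = Ideal.Quotient.mk I a :=
      (RingEquiv.symm_apply_eq _).2 rfl
    simp only [ψ', RingHom.comp_apply, RingEquiv.toRingHom_eq_coe, RingEquiv.coe_toRingHom, h]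
    rfl
  have hψN : ∀ s ∈ N.map (algebraMap R S), ψ' s = 0 := by
    intro s hs
    refine (Ideal.map_le_iff_le_comap (f := algebraMap R S) (K := RingHom.ker ψ')).2 (fun r hr => ?_) hs
    rw [Ideal.mem_comap, RingHom.mem_ker, IsScalarTower.algebraMap_apply R P S, hψ']
    exact (congrArg (Ideal.Quotient.mk J) (hNA r hr)).trans (map_zero _)
  let ψ : (S ⧸ N.map (algebraMap R S)) →ₐ[R ⧸ N] (P ⧸ A) ⧸ J :=
    { Ideal.Quotient.lift _ ψ' hψN with
      commutes' := fun r => by
        obtain ⟨r, rfl⟩ := Ideal.Quotient.mk_surjective r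
        show ψ' (algebraMap R S r) = _
        rw [IsScalarTower.algebraMap_apply R P S, hψ']
        rfl }
  obtain ⟨χ, hχ⟩ := Algebra.FormallySmooth.comp_surjective (R ⧸ N) (S ⧸ N.map (algebraMap R S)) J hJ ψ
  let τ : P →ₐ[R] P ⧸ A := ((χ.restrictScalars R).comp (Ideal.Quotient.mkₐ R (N.map (algebraMap R S)))).comp
    (IsScalarTower.toAlgHom R P S)
  have hτJ : ∀ a : P, Ideal.Quotient.mk A a - τ a ∈ J := fun a => by
    rw [← Ideal.Quotient.mk_eq_mk_iff_sub_mem]
    have h := AlgHom.congr_fun hχ (Ideal.Quotient.mk _ (algebraMap P S a))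
    rw [← hψ']
    exact h.symm
  -- a derivation lifting `mk - τ`
  have hlift : ∀ s : S, ∃ v : I, Ideal.Quotient.mk A (v : P) =
      Ideal.Quotient.mk A (MvPolynomial.X s) - τ (MvPolynomial.X s) := fun s => by
    obtain ⟨v, hv, hveq⟩ := (Ideal.mem_map_iff_of_surjective _ Ideal.Quotient.mk_surjective).1 (hτJ (MvPolynomial.X s))
    exact ⟨⟨v, hv⟩, hveq⟩
  choose v hv using hlift
  let D : Derivation R P I.Cotangent := MvPolynomial.mkDerivation R fun s => I.toCotangent (v s)
  have hD : ∀ (a : P) (w : I), D a = I.toCotangent w → Ideal.Quotient.mk A (w : P) = Ideal.Quotient.mk A a - τ a := by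
    intro a
    induction a using MvPolynomial.induction_on with
    | C r =>
      intro w hw
      rw [show (MvPolynomial.C r : P) = algebraMap R P r from rfl, D.map_algebraMap, eq_comm,
        Ideal.toCotangent_eq_zero] at hw
      rw [Ideal.Quotient.eq_zero_iff_mem.2 (Ideal.mem_sup_left hw), show (MvPolynomial.C r : P) = algebraMap R P r from rfl,
        τ.commutes]
      simp
    | add a b ha hb =>
      intro w hw
      obtain ⟨wa, hwa⟩ := I.toCotangent_surjective (D a)
      obtain ⟨wb, hwb⟩ := I.toCotangent_surjective (D b)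
      rw [map_add D, ← hwa, ← hwb, ← map_add, Ideal.toCotangent_eq] at hw
      have h2 : Ideal.Quotient.mk A (w : P) = Ideal.Quotient.mk A ((wa + wb : I) : P) := by
        rw [Ideal.Quotient.mk_eq_mk_iff_sub_mem, ← neg_sub]
        exact neg_mem (Ideal.mem_sup_left hw)
      rw [h2, Submodule.coe_add, map_add, map_add, map_add, ha wa hwa.symm, hb wb hwb.symm]
      ring
    | mul_X a s ha =>
      intro w hw
      obtain ⟨wa, hwa⟩ := I.toCotangent_surjective (D a)
      rw [D.leibniz, show D (MvPolynomial.X s) = I.toCotangent (v s) from MvPolynomial.mkDerivation_X _ _ s, ← hwa,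
        ← map_smul, ← map_smul, ← map_add, Ideal.toCotangent_eq] at hw
      have h2 : Ideal.Quotient.mk A (w : P) = Ideal.Quotient.mk A ((a • v s + (MvPolynomial.X s : P) • wa : I) : P) := by
        rw [Ideal.Quotient.mk_eq_mk_iff_sub_mem, ← neg_sub]
        exact neg_mem (Ideal.mem_sup_left hw)
      rw [h2, Submodule.coe_add, Submodule.coe_smul, Submodule.coe_smul, map_add, smul_eq_mul, smul_eq_mul, map_mul,
        map_mul, map_mul, map_mul, ha wa hwa.symm, hv s]
      have h0 : (Ideal.Quotient.mk A a - τ a) * (Ideal.Quotient.mk A (MvPolynomial.X s) - τ (MvPolynomial.X s)) = 0 := by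
        have hmem := Ideal.mul_mem_mul (hτJ a) (hτJ (MvPolynomial.X s))
        rwa [show J * J = ⊥ from (sq J).symm.trans hJ, Ideal.mem_bot] at hmem
      linear_combination h0
  -- the linear map on `S ⊗ Ω`
  let L : Ω[P⁄R] →ₗ[P] I.Cotangent := D.liftKaehlerDifferential
  let σ : (P ⧸ I) →ₗ[P] (Ω[P⁄R] →ₗ[P] I.Cotangent) := Submodule.liftQ I (LinearMap.toSpanSingleton P _ L) fun a ha => by
    rw [LinearMap.mem_ker, LinearMap.toSpanSingleton_apply]
    refine LinearMap.ext fun ω => ?_
    rw [LinearMap.smul_apply, LinearMap.zero_apply]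
    obtain ⟨w, hw⟩ := I.toCotangent_surjective (L ω)
    rw [← hw, ← map_smul, Ideal.toCotangent_eq_zero, Submodule.coe_smul, smul_eq_mul, sq]
    exact Ideal.mul_mem_mul ha w.2
  let eS : S ≃ₗ[P] P ⧸ I :=
    (Ideal.quotientKerAlgEquivOfSurjective (f := Algebra.ofId P S) hsurj).symm.toLinearEquiv
  let l : S ⊗[P] Ω[P⁄R] →ₗ[P] I.Cotangent := TensorProduct.lift (σ ∘ₗ eS.toLinearMap)
  have hl : ∀ y : I.Cotangent, y - l (KaehlerDifferential.kerCotangentToTensor R P S y) ∈
      N • (⊤ : Submodule R I.Cotangent) := by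
    intro y
    obtain ⟨w, rfl⟩ := I.toCotangent_surjective y
    obtain ⟨u, hu⟩ := I.toCotangent_surjective (D (w : P))
    have hval : l (KaehlerDifferential.kerCotangentToTensor R P S (I.toCotangent w)) = D (w : P) := by
      rw [KaehlerDifferential.kerCotangentToTensor_toCotangent]
      have h1 : eS (1 : S) = Submodule.Quotient.mk (1 : P) := by
        apply eS.symm.injective
        rw [LinearEquiv.symm_apply_apply]
        exact (map_one (algebraMap P S)).symm
      simp only [l, TensorProduct.lift.tmul, LinearMap.comp_apply, LinearEquiv.coe_coe]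
      rw [h1]
      simp only [σ, Submodule.liftQ_apply, LinearMap.toSpanSingleton_apply, one_smul]
      exact D.liftKaehlerDifferential_comp_D _
    rw [hval, ← hu, ← map_sub]
    have hzero : Ideal.Quotient.mk A ((w - u : I) : P) = 0 := by
      rw [Submodule.coe_sub, map_sub, hD _ u hu.symm, show τ (w : P) = 0 from by
        show χ (Ideal.Quotient.mk _ (algebraMap P S (w : P))) = 0
        rw [show algebraMap P S (w : P) = 0 from w.2, map_zero, map_zero]]
      simp
    obtain ⟨a, ha, b, hb, hab⟩ := Submodule.mem_sup.1 (Ideal.Quotient.eq_zero_iff_mem.1 hzero)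
    have haI : a ∈ I := Ideal.pow_le_self two_ne_zero ha
    have hbI : b ∈ I := by
      rw [show b = ((w - u : I) : P) - a by rw [← hab]; ring]
      exact sub_mem (w - u).2 haI
    have hdec : w - u = ⟨a, haI⟩ + ⟨b, hbI⟩ := Subtype.ext hab.symm
    rw [hdec, map_add, (Ideal.toCotangent_eq_zero I ⟨a, haI⟩).2 ha, zero_add]
    have hm := mem_smul_ker_of_mem_map (R := R) hsurj N ⟨b, hbI⟩ hb
    have := Submodule.mem_map_of_mem (f := (I.toCotangent.restrictScalars R)) hm
    rw [Submodule.map_smul''] at this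
    exact Submodule.smul_mono le_rfl le_top this
  rw [Algebra.FormallySmooth.iff_split_injection hsurj]
  obtain ⟨e, he⟩ := isUnit_end_of_sub_mem (R := R) N hN (l ∘ₗ KaehlerDifferential.kerCotangentToTensor R P S) hl
  refine ⟨((e⁻¹ : (Module.End P I.Cotangent)ˣ) : Module.End P I.Cotangent) ∘ₗ l, ?_⟩
  rw [LinearMap.comp_assoc, ← he]
  exact e.inv_mul

end GrothLib.Cohen
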